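import Groth.Agent.Vanish.K680.FormMain

/-!
# Logarithmic poles of pulled back top forms, several divisors

`exists_pow_pst`: for `y` with discrete valuation ring `O_y`, uniformizer `s`, and `x = π y` arbitrary,
`b` a basis of `Ω_x` with `b j = d (t j)` for `j ∈ A` and `π^# (t j) = u_j s^(a_j)`, `a_j > 0`:
`J β ∈ s^(∑_{j ∈ A} a_j - 1) • Ω^n_y`.
-/

set_option autoImplicit false
set_option backward.isDefEq.respectTransparency false

universe u

noncomputable section

open CategoryTheory CategoryTheory.Limits AlgebraicGeometry Opposite TopologicalSpace OmegaSh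
open K583.AlgUniv K583.StalkDer K583.DerFunct K476.ExtStalk K680.FormHom K680.FormAlg
open Groth.Agent.CycB.ModStalk K475.GenStalk K680.FormMain

namespace K680.FormLog

section Alg

variable {S N W : Type u} [CommRing S] [AddCommGroup N] [Module S N] [AddCommGroup W] [Module S W]
  {n : ℕ}

theorem alt_aux (F : N [⋀^Fin n]→ₗ[S] W) (s : S) (ω : N) (A : Finset (Fin n)) :
    ∀ (v : Fin n → N), (∀ j ∈ A, ∃ (c : S) (m : N), v j = c • ω + s • m) →
      ∀ j₀, j₀ ∉ A → v j₀ = ω → ∃ w, F v = s ^ A.card • w := by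
  induction A using Finset.induction_on with
  | empty => exact fun v _ j₀ _ _ => ⟨F v, by rw [Finset.card_empty, pow_zero, one_smul]⟩
  | insert j A hj ih =>
    intro v hv j₀ hj₀ hω
    rw [Finset.mem_insert, not_or] at hj₀
    obtain ⟨c, m, hcm⟩ := hv j (Finset.mem_insert_self j A)
    have h1 : F v = c • F (Function.update v j ω) + s • F (Function.update v j m) := by
      conv_lhs => rw [← Function.update_eq_self j v, hcm]
      rw [F.map_update_add, F.map_update_smul, F.map_update_smul]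
    have h2 : F (Function.update v j ω) = 0 :=
      F.map_eq_zero_of_eq _ (i := j₀) (j := j)
        (by rw [Function.update_of_ne hj₀.1, Function.update_self, hω]) hj₀.1
    obtain ⟨w, hw⟩ := ih (Function.update v j m) (fun i hi => by
      rw [Function.update_of_ne (ne_of_mem_of_not_mem hi hj)]
      exact hv i (Finset.mem_insert_of_mem hi)) j₀ hj₀.2
      (by rw [Function.update_of_ne hj₀.1, hω])
    refine ⟨w, ?_⟩
    rw [h1, h2, smul_zero, zero_add, hw, Finset.card_insert_of_notMem hj, smul_smul, pow_succ']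

theorem alt_pow (F : N [⋀^Fin n]→ₗ[S] W) (s : S) (ω : N) (A : Finset (Fin n)) :
    ∀ (v : Fin n → N), (∀ j ∈ A, ∃ (c : S) (m : N), v j = c • ω + s • m) →
      ∃ w, F v = s ^ (A.card - 1) • w := by
  induction A using Finset.induction_on with
  | empty => exact fun v _ => ⟨F v, by rw [Finset.card_empty, pow_zero, one_smul]⟩
  | insert j A hj ih =>
    intro v hv
    rcases A.eq_empty_or_nonempty with rfl | hA
    · exact ⟨F v, by simp⟩
    obtain ⟨c, m, hcm⟩ := hv j (Finset.mem_insert_self j A)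
    have h1 : F v = c • F (Function.update v j ω) + s • F (Function.update v j m) := by
      conv_lhs => rw [← Function.update_eq_self j v, hcm]
      rw [F.map_update_add, F.map_update_smul, F.map_update_smul]
    have h3 : ∀ z i, i ∈ A → Function.update v j z i = v i := fun z i hi =>
      Function.update_of_ne (ne_of_mem_of_not_mem hi hj) z v
    obtain ⟨w, hw⟩ := ih (Function.update v j m) (fun i hi => by
      rw [h3 m i hi]; exact hv i (Finset.mem_insert_of_mem hi))
    obtain ⟨w', hw'⟩ := alt_aux F s ω A (Function.update v j ω) (fun i hi => by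
      rw [h3 ω i hi]; exact hv i (Finset.mem_insert_of_mem hi)) j hj (Function.update_self _ _ _)
    refine ⟨c • w' + w, ?_⟩
    have h4 : A.card - 1 + 1 = A.card := Nat.sub_add_cancel hA.card_pos
    rw [h1, hw, hw', Finset.card_insert_of_notMem hj, Nat.add_sub_cancel, smul_smul s, ← pow_succ',
      h4, smul_add, smul_comm c]

theorem der_unit_mul_pow {A₀ : Type u} [CommRing A₀] {φ : A₀ →+* S} {D : S →+ N} (hD : IsDer φ D)
    (u s : S) {a : ℕ} (ha : 0 < a) :
    D (u * s ^ a) = s ^ (a - 1) • ((u * (a : S)) • D s + s • D u) := by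
  obtain ⟨e, rfl⟩ : ∃ e, a = e + 1 := ⟨a - 1, (Nat.sub_add_cancel ha).symm⟩
  rw [hD.leibniz, isDer_pow hD, Nat.add_sub_cancel, smul_add, smul_smul, smul_smul, smul_smul,
    smul_smul]
  congr 1
  · congr 1
    ring
  · congr 1
    exact pow_succ s e

end Alg

variable {k : Type u} [Field k] {X X₁ : Scheme.{u}} {f : X ⟶ Spec (CommRingCat.of k)}
  (π : X₁ ⟶ X) {Ω : X.Modules} {d : Der f Ω} {Ω₁ : X₁.Modules} {n : ℕ} {W : X.Modules}
  {W₁ : X₁.Modules}

/-- Logarithmic poles of pulled back forms along several divisors. -/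
theorem exists_pow_pst (hd : IsUniversal d) {d₁ : Der (π ≫ f) Ω₁}
    (hd₁ : IsUniversal d₁) (hW : ExtPow.IsExtPow n Ω W) (hW₁ : ExtPow.IsExtPow n Ω₁ W₁)
    {J : W ⟶ (Scheme.Modules.pushforward π).obj W₁}
    (hJ : IsPull π (psi π hd d₁) hW hW₁ J) (y : X₁)
    (b : Module.Basis (Fin n) (X.presheaf.stalk (π y)) (Ω.presheaf.stalk (π y)))
    (A : Finset (Fin n)) (t : Fin n → X.presheaf.stalk (π y))
    (hb : ∀ j ∈ A, b j = stalkDer d (π y) (t j)) (s : X₁.presheaf.stalk y) (a : Fin n → ℕ)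
    (u : Fin n → X₁.presheaf.stalk y) (hu : ∀ j ∈ A, π.stalkMap y (t j) = u j * s ^ a j)
    (ha : ∀ j ∈ A, 0 < a j) (m : W.presheaf.stalk (π y)) :
    ∃ ω : W₁.presheaf.stalk y, pst π J y m = s ^ ((∑ j ∈ A, a j) - 1) • ω := by
  classical
  have hq : Coh.IsQCoh Ω := K583.UnivAffine.isQuasicoherent_of_isUniversal hd
  have hq₁ : Coh.IsQCoh Ω₁ := K583.UnivAffine.isQuasicoherent_of_isUniversal hd₁
  rcases A.eq_empty_or_nonempty with rfl | hA
  · exact ⟨pst π J y m, by simp⟩
  have hder := (isAlgUniv_kst hd₁ y).toIsDer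
  obtain ⟨c, rfl⟩ := (isGen_wedge hq hW (π y) b).2 m
  have h2 := pst_wedge π hq hq₁ (psi π hd d₁) hW hW₁ J hJ y b
  -- the reduced family
  let D₁ := stalkDer d₁ y
  let v' : Fin n → Ω₁.presheaf.stalk y := fun j =>
    if j ∈ A then (u j * (a j : X₁.presheaf.stalk y)) • D₁ s + s • D₁ (u j)
    else pst π (psi π hd d₁) y (b j)
  let e : Fin n → X₁.presheaf.stalk y := fun j => if j ∈ A then s ^ (a j - 1) else 1
  have h3 : (fun j => pst π (psi π hd d₁) y (b j)) = fun j => e j • v' j := by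
    funext j
    by_cases hj : j ∈ A
    · simp only [e, v', if_pos hj]
      rw [hb j hj, pst_psi, hu j hj]
      exact der_unit_mul_pow hder (u j) s (ha j hj)
    · simp only [e, v', if_neg hj, one_smul]
  have h4 : ∏ j, e j = s ^ (∑ j ∈ A, (a j - 1)) := by
    simp only [e]
    rw [Finset.prod_ite_mem, Finset.univ_inter, Finset.prod_pow_eq_pow_sum]
  obtain ⟨w, hw⟩ := alt_pow (wedge hq₁ hW₁ y) s (D₁ s) A v' (fun j hj =>
    ⟨u j * (a j : X₁.presheaf.stalk y), D₁ (u j), by simp only [v', if_pos hj]⟩)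
  refine ⟨π.stalkMap y c • w, ?_⟩
  change pst π J y (c • wedge hq hW (π y) b) = _
  rw [pst_smul, h2, h3, AlternatingMap.map_smul_univ, h4, hw, smul_smul, smul_smul, smul_smul,
    mul_assoc, ← pow_add]
  have h5 : ∑ j ∈ A, (a j - 1) + (A.card - 1) = (∑ j ∈ A, a j) - 1 := by
    have h6 : ∑ j ∈ A, a j = ∑ j ∈ A, (a j - 1) + A.card := by
      rw [Finset.card_eq_sum_ones, ← Finset.sum_add_distrib]
      exact Finset.sum_congr rfl fun j hj => (Nat.sub_add_cancel (ha j hj)).symm
    have h7 := hA.card_pos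
    omega
  rw [h5, mul_comm]

/-- The same for sections. -/
theorem exists_pow_germ (hd : IsUniversal d) {d₁ : Der (π ≫ f) Ω₁}
    (hd₁ : IsUniversal d₁) (hW : ExtPow.IsExtPow n Ω W) (hW₁ : ExtPow.IsExtPow n Ω₁ W₁)
    {J : W ⟶ (Scheme.Modules.pushforward π).obj W₁}
    (hJ : IsPull π (psi π hd d₁) hW hW₁ J) (y : X₁)
    (b : Module.Basis (Fin n) (X.presheaf.stalk (π y)) (Ω.presheaf.stalk (π y)))
    (A : Finset (Fin n)) (t : Fin n → X.presheaf.stalk (π y))
    (hb : ∀ j ∈ A, b j = stalkDer d (π y) (t j)) (s : X₁.presheaf.stalk y) (a : Fin n → ℕ)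
    (u : Fin n → X₁.presheaf.stalk y) (hu : ∀ j ∈ A, π.stalkMap y (t j) = u j * s ^ a j)
    (ha : ∀ j ∈ A, 0 < a j) (U : X.Opens) (β : Γ(W, U)) (h : π y ∈ U) :
    ∃ ω : W₁.presheaf.stalk y,
      W₁.presheaf.germ (π ⁻¹ᵁ U) y h (show Γ(W₁, π ⁻¹ᵁ U) from J.app U β) =
        s ^ ((∑ j ∈ A, a j) - 1) • ω := by
  obtain ⟨ω, hω⟩ := exists_pow_pst π hd hd₁ hW hW₁ hJ y b A t hb s a u hu ha
    (W.presheaf.germ U (π y) h β)
  rw [pst_germ] at hω
  exact ⟨ω, hω⟩

end K680.FormLog
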