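import Groth.Agent.CalgA.CharZeroFS
import Groth.Agent.OmegaSh.K583.AlgUniv
import Groth.Agent.SDiv.K476.DetAlg
import Mathlib.RingTheory.Smooth.Kaehler
import Mathlib.RingTheory.Kaehler.JacobiZariski
import Mathlib.RingTheory.DiscreteValuationRing.Basic
import Mathlib.RingTheory.Ideal.Cotangent

/-!
# Algebra for the pull-back of differential forms

* `exists_isDer`: a local algebra over a field of characteristic zero has a derivation to its
  residue field not killing a given element of `m \ m²`;
* `exists_isUnit_repr`, `alt_update`: exchange in a basis;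
* `exists_log`: `a • D t ∈ t • N` for a derivation of a discrete valuation ring and `a ∈ m`;
* `linearIndependent`: `Ω_K ⊗ L → Ω_L` is injective for fields of characteristic zero.
-/

set_option autoImplicit false

universe u

noncomputable section

open K583.AlgUniv IsLocalRing
open scoped TensorProduct

namespace K680.FormAlg

section Der

variable {k R : Type u} [Field k] [CharZero k] [CommRing R] [IsLocalRing R]

theorem exists_isDer (φ : k →+* R) {t : R} (ht : t ∈ maximalIdeal R)
    (ht2 : t ∉ maximalIdeal R ^ 2) :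
    ∃ δ : R →+ ResidueField R, IsDer φ δ ∧ δ t ≠ 0 := by
  let _ : Algebra k R := φ.toAlgebra
  have hfs : Algebra.FormallySmooth k (ResidueField R) :=
    Groth.Agent.CalgA.CharZeroFS.formallySmooth_of_charZero k _
  have h0 : ∀ a ∈ maximalIdeal R ^ 2,
      (IsScalarTower.toAlgHom k R (ResidueField R)) a = 0 := fun a ha =>
    (residue_eq_zero_iff a).mpr (Ideal.pow_le_self two_ne_zero ha)
  let g : (R ⧸ maximalIdeal R ^ 2) →ₐ[k] ResidueField R :=
    Ideal.Quotient.liftₐ (maximalIdeal R ^ 2) (IsScalarTower.toAlgHom k R (ResidueField R)) h0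
  have hgmk : ∀ a : R, g (Ideal.Quotient.mk _ a) = residue R a := fun a => rfl
  have hg : Function.Surjective g := by
    intro z
    obtain ⟨a, rfl⟩ := residue_surjective z
    exact ⟨Ideal.Quotient.mk _ a, hgmk a⟩
  have hker : ∀ z, g z = 0 → z ∈ (maximalIdeal R).cotangentIdeal := by
    intro z hz
    obtain ⟨a, rfl⟩ := Ideal.Quotient.mk_surjective z
    rw [hgmk, residue_eq_zero_iff] at hz
    exact ⟨a, hz, rfl⟩
  have hmul : ∀ z w, g z = 0 → g w = 0 → z * w = 0 := by
    intro z w hz hw
    obtain ⟨a, rfl⟩ := Ideal.Quotient.mk_surjective z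
    obtain ⟨b, rfl⟩ := Ideal.Quotient.mk_surjective w
    rw [hgmk, residue_eq_zero_iff] at hz hw
    rw [← map_mul, Ideal.Quotient.eq_zero_iff_mem, pow_two]
    exact Ideal.mul_mem_mul hz hw
  have hnil : IsNilpotent (RingHom.ker (g : (R ⧸ maximalIdeal R ^ 2) →+* ResidueField R)) := by
    refine ⟨2, (sq _).trans ?_⟩
    rw [Ideal.zero_eq_bot, eq_bot_iff, Ideal.mul_le]
    intro z hz w hw
    exact hmul z w hz hw
  let σ : ResidueField R →ₐ[k] (R ⧸ maximalIdeal R ^ 2) :=
    Algebra.FormallySmooth.liftOfSurjective (AlgHom.id k _) g hg hnil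
  have hσ : ∀ z, g (σ z) = z := fun z =>
    Algebra.FormallySmooth.liftOfSurjective_apply (AlgHom.id k _) g hg hnil z
  let D : R → R ⧸ maximalIdeal R ^ 2 := fun a => Ideal.Quotient.mk _ a - σ (residue R a)
  have hD0 : ∀ a, g (D a) = 0 := by
    intro a
    change g (Ideal.Quotient.mk _ a - σ (residue R a)) = 0
    rw [map_sub, hgmk, hσ, sub_self]
  have hD : ∀ a, D a ∈ (maximalIdeal R).cotangentIdeal := fun a => hker _ (hD0 a)
  have hadd : ∀ a b, D (a + b) = D a + D b := by
    intro a b
    change Ideal.Quotient.mk _ (a + b) - σ (residue R (a + b)) = _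
    rw [map_add, map_add, map_add]
    change _ = (Ideal.Quotient.mk _ a - σ (residue R a)) + (Ideal.Quotient.mk _ b - σ (residue R b))
    ring
  have hlei : ∀ a b, D (a * b) = Ideal.Quotient.mk _ a * D b + Ideal.Quotient.mk _ b * D a := by
    intro a b
    have h1 : (Ideal.Quotient.mk _ b - σ (residue R b)) * (Ideal.Quotient.mk _ a - σ (residue R a)) =
      0 := hmul _ _ (hD0 b) (hD0 a)
    change Ideal.Quotient.mk _ (a * b) - σ (residue R (a * b)) =
      Ideal.Quotient.mk _ a * (Ideal.Quotient.mk _ b - σ (residue R b)) +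
      Ideal.Quotient.mk _ b * (Ideal.Quotient.mk _ a - σ (residue R a))
    rw [map_mul, map_mul, map_mul]
    linear_combination (-1 : R ⧸ maximalIdeal R ^ 2) * h1
  -- the functional
  have hne : (maximalIdeal R).toCotangent ⟨t, ht⟩ ≠ 0 := by
    rw [Ne, Ideal.toCotangent_eq_zero]
    exact ht2
  obtain ⟨ℓ, hℓ⟩ : ∃ ℓ : Module.Dual (ResidueField R) (CotangentSpace R),
      ℓ ((maximalIdeal R).toCotangent ⟨t, ht⟩) ≠ 0 := by
    by_contra h
    push Not at h
    exact hne ((Module.forall_dual_apply_eq_zero_iff (ResidueField R) _).mp h)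
  have hℓs : ∀ (a : R) (x : CotangentSpace R), ℓ (a • x) = a • ℓ x := by
    intro a x
    rw [← algebraMap_smul (ResidueField R) a x, map_smul, algebraMap_smul]
  let ε := (maximalIdeal R).cotangentEquivIdeal
  refine ⟨{ toFun := fun a => ℓ (ε.symm ⟨D a, hD a⟩)
            map_zero' := ?_
            map_add' := ?_ }, ⟨?_, ?_⟩, ?_⟩
  · have h1 : (⟨D 0, hD 0⟩ : (maximalIdeal R).cotangentIdeal) = 0 := by
      apply Subtype.ext
      change Ideal.Quotient.mk _ 0 - σ (residue R 0) = 0
      simp
    rw [h1, map_zero, map_zero]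
  · intro a b
    have h1 : (⟨D (a + b), hD (a + b)⟩ : (maximalIdeal R).cotangentIdeal) =
        ⟨D a, hD a⟩ + ⟨D b, hD b⟩ := Subtype.ext (hadd a b)
    rw [h1, map_add, map_add]
  · intro a b
    change ℓ (ε.symm ⟨D (a * b), hD (a * b)⟩) =
      a • ℓ (ε.symm ⟨D b, hD b⟩) + b • ℓ (ε.symm ⟨D a, hD a⟩)
    have h1 : (⟨D (a * b), hD (a * b)⟩ : (maximalIdeal R).cotangentIdeal) =
        a • ⟨D b, hD b⟩ + b • ⟨D a, hD a⟩ := Subtype.ext (hlei a b)
    rw [h1, map_add, map_add, ε.symm.map_smul, ε.symm.map_smul, hℓs, hℓs]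
  · intro c
    change ℓ (ε.symm ⟨D (φ c), hD (φ c)⟩) = 0
    have h1 : (⟨D (φ c), hD (φ c)⟩ : (maximalIdeal R).cotangentIdeal) = 0 := by
      apply Subtype.ext
      change Ideal.Quotient.mk _ (algebraMap k R c) - σ (residue R (algebraMap k R c)) = 0
      have h2 : residue R (algebraMap k R c) = algebraMap k (ResidueField R) c := rfl
      rw [h2, AlgHom.commutes]
      exact sub_self _
    rw [h1, map_zero, map_zero]
  · change ℓ (ε.symm ⟨D t, hD t⟩) ≠ 0
    have h1 : D t = Ideal.Quotient.mk _ t := by
      change Ideal.Quotient.mk _ t - σ (residue R t) = _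
      rw [(residue_eq_zero_iff t).mpr ht, map_zero, sub_zero]
    have h2 : (⟨D t, hD t⟩ : (maximalIdeal R).cotangentIdeal) =
        ε ((maximalIdeal R).toCotangent ⟨t, ht⟩) := by
      apply Subtype.ext
      rw [Ideal.cotangentEquivIdeal_apply]
      exact h1
    rw [h2, LinearEquiv.symm_apply_apply]
    exact hℓ

end Der

section Basis

variable {R M N : Type u} [CommRing R] [AddCommGroup M] [Module R M] [AddCommGroup N] [Module R N]
  {n : ℕ}

theorem exists_isUnit_repr [IsLocalRing R] (b : Module.Basis (Fin n) R M)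
    (ℓ : M →ₗ[R] ResidueField R) {w : M} (hw : ℓ w ≠ 0) : ∃ j, IsUnit (b.repr w j) := by
  by_contra h
  push Not at h
  apply hw
  rw [← b.sum_repr w, map_sum]
  refine Finset.sum_eq_zero fun j _ => ?_
  rw [map_smul, ← algebraMap_smul (ResidueField R) (b.repr w j)]
  have h1 : algebraMap R (ResidueField R) (b.repr w j) = 0 :=
    (residue_eq_zero_iff _).mpr ((mem_maximalIdeal _).mpr (h j))
  rw [h1, zero_smul]

theorem alt_update (A : M [⋀^Fin n]→ₗ[R] N) (b : Module.Basis (Fin n) R M) (j : Fin n) (w : M) :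
    A (Function.update b j w) = b.repr w j • A b := by
  conv_lhs => rw [← b.sum_repr w]
  have h1 : A (Function.update b j (∑ i, b.repr w i • b i)) =
      ∑ i, A (Function.update b j (b.repr w i • b i)) :=
    A.toMultilinearMap.map_update_sum Finset.univ j (fun i => b.repr w i • b i) b
  rw [h1, Finset.sum_eq_single j]
  · rw [A.map_update_smul, Function.update_eq_self]
  · intro i _ hij
    rw [A.map_update_smul]
    have h2 : A (Function.update b j (b i)) = 0 :=
      A.map_eq_zero_of_eq _ (i := i) (j := j)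
        (by rw [Function.update_of_ne hij, Function.update_self]) hij
    rw [h2, smul_zero]
  · intro h
    exact absurd (Finset.mem_univ j) h

end Basis

section Log

theorem isDer_pow {A S N : Type u} [CommRing A] [CommRing S] [AddCommGroup N] [Module S N]
    {φ : A →+* S} {D : S →+ N} (hD : IsDer φ D) (s : S) (e : ℕ) :
    D (s ^ (e + 1)) = ((e + 1 : ℕ) : S) • s ^ e • D s := by
  induction e with
  | zero => simp
  | succ e ih =>
    rw [pow_succ, hD.leibniz, ih, smul_smul, smul_smul, smul_smul, ← add_smul]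
    congr 1
    push_cast
    ring

theorem exists_log {A S N : Type u} [CommRing A] [CommRing S] [IsDomain S]
    [IsDiscreteValuationRing S] [AddCommGroup N] [Module S N] {φ : A →+* S} {D : S →+ N}
    (hD : IsDer φ D) (t : S) {a : S} (ha : a ∈ maximalIdeal S) : ∃ ω : N, a • D t = t • ω := by
  by_cases ht : t = 0
  · subst ht
    exact ⟨0, by rw [map_zero, smul_zero, smul_zero]⟩
  obtain ⟨s, hs⟩ := IsDiscreteValuationRing.exists_irreducible S
  obtain ⟨e, u, rfl⟩ := IsDiscreteValuationRing.eq_unit_mul_pow_irreducible ht hs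
  obtain ⟨a', rfl⟩ : s ∣ a := by
    rw [hs.maximalIdeal_eq] at ha
    exact Ideal.mem_span_singleton.mp ha
  cases e with
  | zero =>
    refine ⟨((↑u⁻¹ : S) * (s * a')) • D (↑u * s ^ 0), ?_⟩
    rw [smul_smul]
    congr 1
    rw [pow_zero, mul_one, ← mul_assoc, Units.mul_inv, one_mul]
  | succ e =>
    refine ⟨(a' * ((e + 1 : ℕ) : S)) • D s + (a' * s * (↑u⁻¹ : S)) • D ↑u, ?_⟩
    rw [hD.leibniz, isDer_pow hD]
    simp only [smul_add, smul_smul]
    congr 1
    · congr 1
      push_cast
      ring
    · congr 1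
      have h1 : (u : S) * (↑u⁻¹ : S) = 1 := Units.mul_inv u
      linear_combination (-(s ^ (e + 1) * a' * s)) * h1

end Log

section LinInd

theorem linearIndependent {k K L : Type u} [Field k] [CharZero k] [CommRing K] (hK : IsField K)
    [CommRing L] (hL : IsField L) (φ : k →+* K) (ψ : K →+* L) {M N : Type u} [AddCommGroup M]
    [Module K M] [AddCommGroup N] [Module L N] {δ : K →+ M} (hδ : IsAlgUniv φ δ) {δ' : L →+ N}
    (hδ' : IsAlgUniv (ψ.comp φ) δ') (P : M →+ N) (hP : ∀ (c : K) m, P (c • m) = ψ c • P m)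
    (hPδ : ∀ a, P (δ a) = δ' (ψ a)) {n : ℕ} (b : Module.Basis (Fin n) K M) :
    LinearIndependent L (fun j => P (b j)) := by
  let _ : Algebra k K := φ.toAlgebra
  let _ : Algebra K L := ψ.toAlgebra
  let _ : Algebra k L := (ψ.comp φ).toAlgebra
  have : IsScalarTower k K L := IsScalarTower.of_algebraMap_eq fun _ => rfl
  have hfs : Algebra.FormallySmooth K L := by
    let _ : Field K := hK.toField
    let _ : Field L := hL.toField
    have : CharZero K := charZero_of_injective_ringHom φ.injective
    exact Groth.Agent.CalgA.CharZeroFS.formallySmooth_of_charZero K L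
  have hinj : Function.Injective (KaehlerDifferential.mapBaseChange k K L) := by
    have h := Algebra.H1Cotangent.exact_δ_mapBaseChange k K L
    have hs : Subsingleton (Algebra.H1Cotangent K L) := inferInstance
    rw [injective_iff_map_eq_zero]
    intro x hx
    obtain ⟨y, rfl⟩ := (h x).mp hx
    rw [Subsingleton.elim y 0, map_zero]
  obtain ⟨e, he⟩ := IsAlgUniv.exists_kaehler_equiv (A := k) (B := K) hδ
  obtain ⟨e', he'⟩ := IsAlgUniv.exists_kaehler_equiv (A := k) (B := L) hδ'
  have key : ∀ w : Ω[K⁄k],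
      e' (KaehlerDifferential.mapBaseChange k K L (1 ⊗ₜ w)) = P (e w) := by
    intro w
    have hw : w ∈ Submodule.span K (Set.range (KaehlerDifferential.D k K)) := by
      rw [KaehlerDifferential.span_range_derivation]
      trivial
    induction hw using Submodule.span_induction with
    | mem w hw =>
      obtain ⟨c, rfl⟩ := hw
      rw [KaehlerDifferential.mapBaseChange_tmul, one_smul, KaehlerDifferential.map_D, he', he, hPδ]
      rfl
    | zero => simp
    | add x y _ _ hx hy => rw [TensorProduct.tmul_add, map_add, map_add, map_add, map_add, hx, hy]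
    | smul c x _ hx =>
      rw [TensorProduct.tmul_smul, ← algebraMap_smul L c, map_smul, map_smul, map_smul, hx, hP]
      rfl
  let B := ((b.map e.symm).baseChange L)
  have h1 : LinearIndependent L (fun j => KaehlerDifferential.mapBaseChange k K L (B j)) :=
    B.linearIndependent.map' _ (LinearMap.ker_eq_bot.mpr hinj)
  have h2 := h1.map' e'.toLinearMap (LinearMap.ker_eq_bot.mpr e'.injective)
  have h4 : (fun j => P (b j)) = fun j => e' (KaehlerDifferential.mapBaseChange k K L (B j)) := by
    funext j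
    have h3 : B j = 1 ⊗ₜ[K] (e.symm (b j)) := by
      rw [Module.Basis.baseChange_apply, Module.Basis.map_apply]
    rw [h3, key, LinearEquiv.apply_symm_apply]
  rw [h4]
  exact h2

end LinInd

end K680.FormAlg
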