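import Groth.Agent.Krr.H487.ExtPull
import Groth.Agent.SDiv.K476.ExtStalk
import Groth.Agent.Fdesc.PullbackStalk

/-!
# The map on exterior powers induced by a morphism `E ⟶ f_* E'`

For `f : Y ⟶ X`, `ψ : E ⟶ f_* E'` and exterior powers `L` of `E`, `L'` of `E'`:
* `exists_hom`: `J : L ⟶ f_* L'` with `J (e_1 ∧ … ∧ e_i) = ψ e_1 ∧ … ∧ ψ e_i`;
* `pst ψ y : E_{f y} →+ E'_y`, semilinear;
* `pst_wedge`: `pst J y (v_1 ∧ … ∧ v_i) = pst ψ y v_1 ∧ … ∧ pst ψ y v_i`.
-/

set_option autoImplicit false

universe u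

noncomputable section

open CategoryTheory CategoryTheory.Limits AlgebraicGeometry Opposite TopologicalSpace
open Groth.Agent.Sga67.Sec Groth.Agent.Sga67.LocBasis Groth.Agent.Sga67.ExtSheaf
open Groth.Agent.Krr.H487.LocBasisPull Groth.Agent.Krr.H487.ExtPull

namespace K680.FormHom

variable {X Y : Scheme.{u}} (f : Y ⟶ X)

/-- The image of a section. -/
def im {E : X.Modules} {E' : Y.Modules} (ψ : E ⟶ (Scheme.Modules.pushforward f).obj E')
    {U : X.Opens} : Sec E U →+ Sec E' (f ⁻¹ᵁ U) :=
  (appS ψ U).toAddMonoidHom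

theorem im_def {E : X.Modules} {E' : Y.Modules} (ψ : E ⟶ (Scheme.Modules.pushforward f).obj E')
    {U : X.Opens} (s : Sec E U) : im f ψ s = appS ψ U s := rfl

theorem im_smul {E : X.Modules} {E' : Y.Modules} (ψ : E ⟶ (Scheme.Modules.pushforward f).obj E')
    {U : X.Opens} (c : Γ(X, U)) (s : Sec E U) :
    im f ψ (c • s) = (f.app U c : Γ(Y, f ⁻¹ᵁ U)) • im f ψ s :=
  map_smul (appS ψ U) c s

theorem res_im {E : X.Modules} {E' : Y.Modules} (ψ : E ⟶ (Scheme.Modules.pushforward f).obj E')
    {U V : X.Opens} (h : V ≤ U) (s : Sec E U) :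
    res E' (Scheme.Hom.preimage_mono f h) (im f ψ s) = im f ψ (res E h s) :=
  (appS_res ψ h s).symm

set_option maxHeartbeats 2000000 in
/-- The wedge of the images, as an alternating map. -/
theorem exists_alt {i : ℕ} {E : X.Modules} {E' L' : Y.Modules}
    (ψ : E ⟶ (Scheme.Modules.pushforward f).obj E')
    (φ' : Phi i E' L') (hφ' : PhiComp φ') (U : X.Opens) :
    ∃ w : (Sec E U) [⋀^Fin i]→ₗ[Γ(X, U)] (Sec ((Scheme.Modules.pushforward f).obj L') U),
      ∀ (e : Fin i → Sec E U) (V : Y.affineOpens) (h : V.1 ≤ f ⁻¹ᵁ U),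
        res L' h (show Sec L' (f ⁻¹ᵁ U) from w e) =
          (φ' V).symm (exteriorPower.ιMulti _ i (fun j => res E' h (im f ψ (e j)))) := by
  have key : ∀ e : Fin i → Sec E U, ∃ t : Sec L' (f ⁻¹ᵁ U), ∀ (V : Y.affineOpens) (h : V.1 ≤ f ⁻¹ᵁ U),
      res L' h t = (φ' V).symm (exteriorPower.ιMulti _ i (fun j => res E' h (im f ψ (e j)))) := by
    intro e
    apply exists_glue
    intro V V' h h'
    refine (hφ' V V' h' _).trans ?_
    simp only [res_res]
  choose t ht using key
  refine ⟨{
    toFun := fun e => t e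
    map_update_add' := ?_
    map_update_smul' := ?_
    map_eq_zero_of_eq' := ?_ }, fun e V h => ht e V h⟩
  · intro _ e j x y
    change t _ = t _ + t _
    apply eq_of_affine
    intro V h
    rw [map_add (res L' h), ht, ht, ht]
    have hu : ∀ z, (fun k => res E' h (im f ψ (Function.update e j z k))) =
        Function.update (fun k => res E' h (im f ψ (e k))) j (res E' h (im f ψ z)) := by
      intro z
      exact Function.comp_update (fun z => res E' h (im f ψ z)) e j z
    rw [hu, hu, hu, map_add (im f ψ), map_add (res E' h), AlternatingMap.map_update_add,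
      map_add (φ' V).symm]
  · intro _ e j c x
    change t _ = (f.app U c : Γ(Y, f ⁻¹ᵁ U)) • t _
    apply eq_of_affine
    intro V h
    rw [res_smul, ht, ht]
    have hu : ∀ z, (fun k => res E' h (im f ψ (Function.update e j z k))) =
        Function.update (fun k => res E' h (im f ψ (e k))) j (res E' h (im f ψ z)) := by
      intro z
      exact Function.comp_update (fun z => res E' h (im f ψ z)) e j z
    rw [hu, hu, im_smul, res_smul, AlternatingMap.map_update_smul, map_smul]
  · intro e a b hab hne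
    change t _ = 0
    apply eq_of_affine
    intro V h
    rw [map_zero, ht, AlternatingMap.map_eq_zero_of_eq _ _ _ hne, map_zero]
    rw [hab]

set_option maxHeartbeats 2000000 in
/-- The comparison morphism `L ⟶ f_* L'`. -/
theorem exists_hom' {i : ℕ} {E L : X.Modules} {E' L' : Y.Modules}
    (ψ : E ⟶ (Scheme.Modules.pushforward f).obj E') (φ : Phi i E L) (hφ : PhiComp φ)
    (φ' : Phi i E' L') (hφ' : PhiComp φ') :
    ∃ g : L ⟶ (Scheme.Modules.pushforward f).obj L',
      ∀ (U : X.affineOpens) (e : Fin i → Sec E U.1) (V : Y.affineOpens) (h : V.1 ≤ f ⁻¹ᵁ U.1),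
        res L' h (show Sec L' (f ⁻¹ᵁ U.1) from
          appS g U.1 ((φ U).symm (exteriorPower.ιMulti _ i e))) =
          (φ' V).symm (exteriorPower.ιMulti _ i (fun j => res E' h (im f ψ (e j)))) := by
  choose w hw using fun U : X.Opens => exists_alt f ψ φ' hφ' U
  obtain ⟨g, hg⟩ := exists_hom_of_basis' (affineBasis X) L ((Scheme.Modules.pushforward f).obj L')
    (fun U => (exteriorPower.alternatingMapLinearEquiv (w U.1)) ∘ₗ (φ U).toLinearMap)
    (by
      intro U V h s
      refine phi_induction φ U (C := fun s =>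
        ((exteriorPower.alternatingMapLinearEquiv (w V.1)) ∘ₗ (φ V).toLinearMap) (res L h s) =
        res ((Scheme.Modules.pushforward f).obj L') h
          (((exteriorPower.alternatingMapLinearEquiv (w U.1)) ∘ₗ (φ U).toLinearMap) s)) ?_ ?_ ?_ ?_ s
      · simp only [map_zero]
      · intro x y hx hy
        rw [map_add, map_add, hx, hy, map_add, map_add]
      · intro a x hx
        rw [res_smul, map_smul, map_smul, hx, res_smul]
      · intro e
        rw [hφ U V h e]
        simp only [LinearMap.comp_apply, LinearEquiv.coe_coe, LinearEquiv.apply_symm_apply,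
          exteriorPower.alternatingMapLinearEquiv_apply_ιMulti]
        change (show Sec L' (f ⁻¹ᵁ V.1) from w V.1 (fun j => res E h (e j))) =
          res L' (Scheme.Hom.preimage_mono f h) (show Sec L' (f ⁻¹ᵁ U.1) from w U.1 e)
        apply eq_of_affine
        intro W hW
        rw [res_res, hw, hw]
        congr 2
        funext j
        rw [← res_im f ψ h, res_res])
  refine ⟨g, fun U e V h => ?_⟩
  rw [hg U]
  simp only [LinearMap.comp_apply, LinearEquiv.coe_coe, LinearEquiv.apply_symm_apply,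
    exteriorPower.alternatingMapLinearEquiv_apply_ιMulti]
  exact hw U.1 e V h

open K476.ExtStalk in
/-- The comparison morphism `L ⟶ f_* L'` on decomposable sections. -/
theorem exists_hom {i : ℕ} {E L : X.Modules} {E' L' : Y.Modules}
    (ψ : E ⟶ (Scheme.Modules.pushforward f).obj E') (hL : ExtPow.IsExtPow i E L)
    (hL' : ExtPow.IsExtPow i E' L') :
    ∃ g : L ⟶ (Scheme.Modules.pushforward f).obj L',
      ∀ (U : X.affineOpens) (e : Fin i → Sec E U.1) (V : Y.affineOpens) (h : V.1 ≤ f ⁻¹ᵁ U.1),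
        res L' h (im f g (dec hL U e)) = dec hL' V (fun j => res E' h (im f ψ (e j))) :=
  exists_hom' f ψ (fun U => phi hL U) (fun _ _ h e => res_dec hL h e) (fun U => phi hL' U)
    (fun _ _ h e => res_dec hL' h e)

set_option backward.isDefEq.respectTransparency false

open Groth.Agent.Fdesc.Skyscraper hiding Sec
open Groth.Agent.Fdesc.PullbackStalk

/-- The map on stalks induced by `ψ : E ⟶ f_* E'`. -/
def pst {E : X.Modules} {E' : Y.Modules} (ψ : E ⟶ (Scheme.Modules.pushforward f).obj E') (y : Y) :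
    E.presheaf.stalk (f y) →+ E'.presheaf.stalk y :=
  (pushAdd f E' y).comp (stalkMap ψ (f y)).toAddMonoidHom

theorem pst_germ {E : X.Modules} {E' : Y.Modules} (ψ : E ⟶ (Scheme.Modules.pushforward f).obj E')
    (y : Y) (U : X.Opens) (hU : f y ∈ U) (s : Γ(E, U)) :
    pst f ψ y (E.presheaf.germ U (f y) hU s) =
      E'.presheaf.germ (f ⁻¹ᵁ U) y hU (im f ψ s) := by
  refine (congrArg (pushAdd f E' y) (stalkMap_germ ψ (f y) U hU s)).trans ?_
  exact pushAdd_germ f E' y U hU _

theorem pst_smul {E : X.Modules} {E' : Y.Modules} (ψ : E ⟶ (Scheme.Modules.pushforward f).obj E')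
    (y : Y) (r : X.presheaf.stalk (f y)) (m : E.presheaf.stalk (f y)) :
    pst f ψ y (r • m) = f.stalkMap y r • pst f ψ y m := by
  refine (congrArg (pushAdd f E' y) (map_smul (stalkMap ψ (f y)) r m)).trans ?_
  exact pushAdd_smul f E' y r _

open K476.ExtStalk in
theorem pst_wedge {i : ℕ} {E L : X.Modules} {E' L' : Y.Modules} (hE : Coh.IsQCoh E)
    (hE' : Coh.IsQCoh E') (ψ : E ⟶ (Scheme.Modules.pushforward f).obj E')
    (hL : ExtPow.IsExtPow i E L) (hL' : ExtPow.IsExtPow i E' L')
    (g : L ⟶ (Scheme.Modules.pushforward f).obj L')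
    (hg : ∀ (U : X.affineOpens) (e : Fin i → Sec E U.1) (V : Y.affineOpens)
      (h : V.1 ≤ f ⁻¹ᵁ U.1),
        res L' h (im f g (dec hL U e)) = dec hL' V (fun j => res E' h (im f ψ (e j))))
    (y : Y) (v : Fin i → E.presheaf.stalk (f y)) :
    pst f g y (wedge hE hL (f y) v) = wedge hE' hL' y (fun j => pst f ψ y (v j)) := by
  obtain ⟨U, hx, e, he⟩ := exists_common_affine v
  obtain rfl : (fun j => E.presheaf.germ U.1 (f y) hx (e j)) = v := funext he
  rw [wedge_germ, pst_germ]
  obtain ⟨V, hVa, hyV, hVZ⟩ := exists_isAffineOpen_mem_and_subset (x := y) (U := f ⁻¹ᵁ U.1) hx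
  have hVU : V ≤ f ⁻¹ᵁ U.1 := hVZ
  rw [← germ_res L' hVU hyV, hg U e ⟨V, hVa⟩ hVU]
  have h1 : (fun j => pst f ψ y (E.presheaf.germ U.1 (f y) hx (e j))) =
      fun j => E'.presheaf.germ V y hyV (res E' hVU (im f ψ (e j))) := by
    funext j
    rw [pst_germ, germ_res E' hVU hyV]
  rw [h1]
  exact (wedge_germ hE' hL' ⟨V, hVa⟩ hyV _).symm

end K680.FormHom
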