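import Groth.Agent.Vanish.K680.FormHom
import Groth.Agent.Vanish.K680.FormAlg
import Groth.Agent.OmegaSh.K583.StalkDer
import Groth.Agent.OmegaSh.K583.UnivAffine
import Groth.Agent.S5005
import Groth.Agent.Dual.H339.OmegaRank
import Groth.Agent.Krr.H450.ConormalIso
import Groth.Agent.SDiv.K475.GenStalk

/-!
# The pull-back of top differential forms in characteristic zero

For `π : X₁ ⟶ X` over a field `k` of characteristic zero, `X`, `X₁` smooth of relative dimension `n`:
`J : Ω^n_X ⟶ π_* Ω^n_{X₁}`, injective on sections when `π` is dominant, and with logarithmic poles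
along divisors: `a • J β ∈ t • Ω^n_{X₁, y}` for `a` in the maximal ideal at `y` and `t` a
uniformizer at `π y`.
-/

set_option autoImplicit false
set_option backward.isDefEq.respectTransparency false

universe u

noncomputable section

open CategoryTheory CategoryTheory.Limits AlgebraicGeometry Opposite TopologicalSpace OmegaSh
open K583.AlgUniv K583.StalkDer K583.DerFunct K476.ExtStalk K680.FormHom K680.FormAlg
open Groth.Agent.CycB.ModStalk K475.GenStalk

namespace K680.FormMain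

variable {k : Type u} [Field k]

/-! ### The base field -/

/-- The map from the base field to a local ring. -/
def kst {X : Scheme.{u}} (f : X ⟶ Spec (CommRingCat.of k)) (x : X) : k →+* X.presheaf.stalk x :=
  (f.stalkMap x).hom.comp (((Spec (CommRingCat.of k)).presheaf.germ ⊤ (f x) trivial).hom.comp
    (Scheme.ΓSpecIso (CommRingCat.of k)).inv.hom)

theorem surj_stalk (y : Spec (CommRingCat.of k)) (c : (Spec (CommRingCat.of k)).presheaf.stalk y) :
    ∃ c' : k, (Spec (CommRingCat.of k)).presheaf.germ ⊤ y trivial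
      ((Scheme.ΓSpecIso (CommRingCat.of k)).inv c') = c := by
  obtain ⟨V, hV, s, rfl⟩ := TopCat.Presheaf.exists_germ_eq (Spec (CommRingCat.of k)).presheaf c
  have hs : Subsingleton (Spec (CommRingCat.of k)) :=
    inferInstanceAs (Subsingleton (PrimeSpectrum k))
  obtain rfl : V = ⊤ := by
    apply Opens.ext
    exact Set.eq_univ_of_forall fun z => (Subsingleton.elim y z) ▸ hV
  refine ⟨(Scheme.ΓSpecIso (CommRingCat.of k)).hom s, ?_⟩
  congr 1
  exact (Scheme.ΓSpecIso (CommRingCat.of k)).hom_inv_id_apply s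

theorem kst_comp {X X₁ : Scheme.{u}} (f : X ⟶ Spec (CommRingCat.of k)) (π : X₁ ⟶ X) (y : X₁) :
    kst (π ≫ f) y = (π.stalkMap y).hom.comp (kst f (π y)) := by
  have h1 : (π ≫ f).stalkMap y = f.stalkMap (π y) ≫ π.stalkMap y := Scheme.Hom.stalkMap_comp π f y
  rw [kst, h1]
  rfl

theorem isAlgUniv_kst {X : Scheme.{u}} {f : X ⟶ Spec (CommRingCat.of k)} {Ω : X.Modules}
    {d : Der f Ω} (hd : IsUniversal d) (x : X) : IsAlgUniv (kst f x) (stalkDer d x) := by
  refine (isAlgUniv_stalkDer hd x).transport (RingEquiv.refl _) (fun _ _ => rfl) (fun _ => rfl)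
    (fun c => ?_) (fun c' => ?_)
  · obtain ⟨c', hc'⟩ := surj_stalk (f x) c
    refine ⟨c', ?_⟩
    change (f.stalkMap x).hom _ = (f.stalkMap x).hom c
    exact congrArg (f.stalkMap x).hom hc'
  · exact ⟨_, rfl⟩

/-! ### Generators of exterior powers -/

section Gen

variable {X : Scheme.{u}} {n : ℕ} {E L : X.Modules}

/-- The wedge of a basis of the stalk is a generator. -/
theorem isGen_wedge (hE : Coh.IsQCoh E) (hL : ExtPow.IsExtPow n E L) (x : X)
    (b : Module.Basis (Fin n) (X.presheaf.stalk x) (E.presheaf.stalk x)) :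
    IsGen L x (wedge hE hL x b) := by
  obtain ⟨D, hD⟩ : ∃ D : L.presheaf.stalk x →ₗ[X.presheaf.stalk x]
      X.presheaf.stalk x, D (wedge hE hL x b) = 1 := by
    refine ⟨(exteriorPower.alternatingMapLinearEquiv b.det) ∘ₗ
      (wedgeEquiv hE hL x).symm.toLinearMap, ?_⟩
    rw [LinearMap.comp_apply, wedge_apply]
    have h1 : (wedgeEquiv hE hL x).symm.toLinearMap (wedgeEquiv hE hL x
      (exteriorPower.ιMulti _ n b)) = exteriorPower.ιMulti _ n b :=
      (wedgeEquiv hE hL x).symm_apply_apply _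
    rw [h1, exteriorPower.alternatingMapLinearEquiv_apply_ιMulti, Module.Basis.det_self]
  have hspan : ∀ m : L.presheaf.stalk x, m ∈ Submodule.span (X.presheaf.stalk x)
      {wedge hE hL x b} := by
    intro m
    have hm : m ∈ Submodule.span (X.presheaf.stalk x) (Set.range (wedge hE hL x)) := by
      rw [span_wedge]; trivial
    refine Submodule.span_le.mpr ?_ hm
    rintro _ ⟨v, rfl⟩
    have h2 : v = fun j => ∑ i, (b.repr (v j) i) • b i := funext fun j => (b.sum_repr (v j)).symm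
    rw [h2, K476.DetAlg.alt_comp (wedge hE hL x) b (fun j i => b.repr (v j) i)]
    exact Submodule.smul_mem _ _ (Submodule.mem_span_singleton_self _)
  constructor
  · intro a c hac
    have h3 := congrArg D hac
    simp only [map_smul, hD, smul_eq_mul, mul_one] at h3
    exact h3
  · intro m
    obtain ⟨a, ha⟩ := Submodule.mem_span_singleton.mp (hspan m)
    exact ⟨a, ha⟩

/-- The stalks of the top exterior power inject into the generic stalk. -/
theorem inj_of_rank [IsIntegral X] (hE : Coh.IsQCoh E) (hr : FlatMod.IsFinLocFreeOfRank n E)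
    (hL : ExtPow.IsExtPow n E L) : Inj L := by
  refine inj_of_isTorsionFree (isQCoh_of_isExtPow hE hL) (fun x => ?_)
  obtain ⟨b⟩ := Groth.Agent.Krr.H450.ConormalIso.exists_basis_stalk hr x
  have h1 := isGen_wedge hE hL x b
  have h2 : Module.Free (X.presheaf.stalk x) (L.presheaf.stalk x) :=
    Module.Free.of_equiv (LinearEquiv.ofBijective
      (LinearMap.toSpanSingleton (X.presheaf.stalk x) (L.presheaf.stalk x) _) h1)
  infer_instance

end Gen

/-! ### The pull-back of forms -/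

section Main

variable {X X₁ : Scheme.{u}} {f : X ⟶ Spec (CommRingCat.of k)} (π : X₁ ⟶ X) {Ω : X.Modules}
  {d : Der f Ω} {Ω₁ : X₁.Modules} {n : ℕ} {W : X.Modules} {W₁ : X₁.Modules}

/-- The pull-back of one-forms. -/
def psi (hd : IsUniversal d) (d₁ : Der (π ≫ f) Ω₁) :
    Ω ⟶ (Scheme.Modules.pushforward π).obj Ω₁ :=
  univLift hd (pushDer (Category.comp_id (π ≫ f)) d₁)

theorem pst_psi (hd : IsUniversal d) (d₁ : Der (π ≫ f) Ω₁) (y : X₁)
    (a : X.presheaf.stalk (π y)) :
    pst π (psi π hd d₁) y (stalkDer d (π y) a) = stalkDer d₁ y (π.stalkMap y a) := by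
  obtain ⟨U, hU, s, rfl⟩ := TopCat.Presheaf.exists_germ_eq X.presheaf a
  have h1 : π.stalkMap y (X.presheaf.germ U (π y) hU s) =
      X₁.presheaf.germ (π ⁻¹ᵁ U) y hU (π.app U s) := Scheme.Hom.germ_stalkMap_apply π U y hU s
  rw [stalkDer_germ]
  refine (pst_germ π (psi π hd d₁) y U hU _).trans ?_
  refine Eq.trans ?_ (congrArg (stalkDer d₁ y) h1).symm
  rw [stalkDer_germ]
  refine congrArg (Ω₁.presheaf.germ (π ⁻¹ᵁ U) y hU) ?_
  exact univLift_app hd (pushDer (Category.comp_id (π ≫ f)) d₁) U s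

/-- `J` is the pull-back of `n`-forms. -/
def IsPull (ψ : Ω ⟶ (Scheme.Modules.pushforward π).obj Ω₁) (hW : ExtPow.IsExtPow n Ω W)
    (hW₁ : ExtPow.IsExtPow n Ω₁ W₁) (J : W ⟶ (Scheme.Modules.pushforward π).obj W₁) : Prop :=
  ∀ (U : X.affineOpens) (e : Fin n → Groth.Agent.Sga67.Sec.Sec Ω U.1) (V : X₁.affineOpens)
    (h : V.1 ≤ π ⁻¹ᵁ U.1),
    Groth.Agent.Sga67.Sec.res W₁ h (im π J (dec hW U e)) =
      dec hW₁ V (fun j => Groth.Agent.Sga67.Sec.res Ω₁ h (im π ψ (e j)))

theorem exists_isPull (ψ : Ω ⟶ (Scheme.Modules.pushforward π).obj Ω₁)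
    (hW : ExtPow.IsExtPow n Ω W) (hW₁ : ExtPow.IsExtPow n Ω₁ W₁) :
    ∃ J, IsPull π ψ hW hW₁ J := exists_hom π ψ hW hW₁

/-- The pull-back of `n`-forms is injective at generic points. -/
theorem pst_ne_zero [CharZero k] (hd : IsUniversal d) {d₁ : Der (π ≫ f) Ω₁}
    (hd₁ : IsUniversal d₁) (hr : FlatMod.IsFinLocFreeOfRank n Ω)
    (hr₁ : FlatMod.IsFinLocFreeOfRank n Ω₁) (hW : ExtPow.IsExtPow n Ω W)
    (hW₁ : ExtPow.IsExtPow n Ω₁ W₁) {J : W ⟶ (Scheme.Modules.pushforward π).obj W₁}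
    (hJ : IsPull π (psi π hd d₁) hW hW₁ J) (y : X₁) (hK : IsField (X.presheaf.stalk (π y)))
    (hL : IsField (X₁.presheaf.stalk y)) {m : W.presheaf.stalk (π y)} (hm : m ≠ 0) :
    pst π J y m ≠ 0 := by
  have hq : Coh.IsQCoh Ω := K583.UnivAffine.isQuasicoherent_of_isUniversal hd
  have hq₁ : Coh.IsQCoh Ω₁ := K583.UnivAffine.isQuasicoherent_of_isUniversal hd₁
  obtain ⟨b⟩ := Groth.Agent.Krr.H450.ConormalIso.exists_basis_stalk hr (π y)
  obtain ⟨b₁⟩ := Groth.Agent.Krr.H450.ConormalIso.exists_basis_stalk hr₁ y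
  have hδ' : IsAlgUniv ((π.stalkMap y).hom.comp (kst f (π y))) (stalkDer d₁ y) := by
    rw [← kst_comp]
    exact isAlgUniv_kst hd₁ y
  have hli : LinearIndependent (X₁.presheaf.stalk y) (fun j => pst π (psi π hd d₁) y (b j)) :=
    linearIndependent hK hL (kst f (π y)) (π.stalkMap y).hom (isAlgUniv_kst hd (π y)) hδ'
      (pst π (psi π hd d₁) y) (fun c m => pst_smul π (psi π hd d₁) y c m)
      (fun a => pst_psi π hd d₁ y a) b
  have : Nontrivial (X₁.presheaf.stalk y) := inferInstance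
  obtain ⟨b₂, hb₂⟩ : ∃ b₂ : Module.Basis (Fin n) (X₁.presheaf.stalk y) (Ω₁.presheaf.stalk y),
      (b₂ : Fin n → Ω₁.presheaf.stalk y) = fun j => pst π (psi π hd d₁) y (b j) := by
    have hspan : Submodule.span (X₁.presheaf.stalk y)
        (Set.range fun j => pst π (psi π hd d₁) y (b j)) = ⊤ := by
      let _ : Field (X₁.presheaf.stalk y) := hL.toField
      have h1 : Module.finrank (X₁.presheaf.stalk y) (Ω₁.presheaf.stalk y) = n := by
        rw [Module.finrank_eq_card_basis b₁, Fintype.card_fin]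
      have : Module.Finite (X₁.presheaf.stalk y) (Ω₁.presheaf.stalk y) :=
        Module.Finite.of_basis b₁
      exact hli.span_eq_top_of_card_eq_finrank' (by rw [Fintype.card_fin, h1])
    exact ⟨Module.Basis.mk hli hspan.ge, Module.Basis.coe_mk _ _⟩
  obtain ⟨c, rfl⟩ := (isGen_wedge hq hW (π y) b).2 m
  have h1 := pst_wedge π hq hq₁ (psi π hd d₁) hW hW₁ J hJ y b
  have h2 : (fun j => pst π (psi π hd d₁) y (b j)) = b₂ := hb₂.symm
  rw [h2] at h1
  intro h0
  change pst π J y (c • wedge hq hW (π y) b) = 0 at h0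
  rw [pst_smul, h1] at h0
  have h3 : (π.stalkMap y c) = 0 := by
    apply (isGen_wedge hq₁ hW₁ y b₂).1
    change (π.stalkMap y c) • _ = (0 : X₁.presheaf.stalk y) • _
    rw [zero_smul]
    exact h0
  have h4 : c = 0 := by
    by_contra hc
    obtain ⟨c', hc'⟩ := hK.mul_inv_cancel hc
    have h5 : π.stalkMap y (c * c') = 1 := by rw [hc', map_one]
    rw [map_mul, h3, zero_mul] at h5
    exact zero_ne_one h5
  apply hm
  rw [h4]
  exact zero_smul _ _

/-- Logarithmic poles of pulled back forms. -/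
theorem exists_log_pst [CharZero k] (hd : IsUniversal d) {d₁ : Der (π ≫ f) Ω₁}
    (hd₁ : IsUniversal d₁) (hr : FlatMod.IsFinLocFreeOfRank n Ω)
    (hW : ExtPow.IsExtPow n Ω W) (hW₁ : ExtPow.IsExtPow n Ω₁ W₁)
    {J : W ⟶ (Scheme.Modules.pushforward π).obj W₁}
    (hJ : IsPull π (psi π hd d₁) hW hW₁ J) (y : X₁) [IsDomain (X₁.presheaf.stalk y)]
    [IsDiscreteValuationRing (X₁.presheaf.stalk y)] {t : X.presheaf.stalk (π y)}
    (ht : t ∈ IsLocalRing.maximalIdeal (X.presheaf.stalk (π y)))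
    (ht2 : t ∉ IsLocalRing.maximalIdeal (X.presheaf.stalk (π y)) ^ 2)
    {a : X₁.presheaf.stalk y} (ha : a ∈ IsLocalRing.maximalIdeal (X₁.presheaf.stalk y))
    (m : W.presheaf.stalk (π y)) :
    ∃ ω : W₁.presheaf.stalk y, a • pst π J y m = π.stalkMap y t • ω := by
  have hq : Coh.IsQCoh Ω := K583.UnivAffine.isQuasicoherent_of_isUniversal hd
  have hq₁ : Coh.IsQCoh Ω₁ := K583.UnivAffine.isQuasicoherent_of_isUniversal hd₁
  obtain ⟨b⟩ := Groth.Agent.Krr.H450.ConormalIso.exists_basis_stalk hr (π y)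
  obtain ⟨δ, hδ, hδt⟩ := exists_isDer (kst f (π y)) ht ht2
  obtain ⟨ℓ, hℓ, -⟩ := (isAlgUniv_kst hd (π y)).lift _ δ hδ
  set w := stalkDer d (π y) t with hw
  have hw0 : ℓ w ≠ 0 := by rw [hw, hℓ]; exact hδt
  obtain ⟨j, hj⟩ := exists_isUnit_repr b ℓ hw0
  obtain ⟨v, hv⟩ := hj
  obtain ⟨c, rfl⟩ := (isGen_wedge hq hW (π y) b).2 m
  have h1 : wedge hq hW (π y) b = (↑v⁻¹ : X.presheaf.stalk (π y)) •
      wedge hq hW (π y) (Function.update b j w) := by
    rw [alt_update, ← hv, smul_smul, Units.inv_mul, one_smul]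
  have h2 := pst_wedge π hq hq₁ (psi π hd d₁) hW hW₁ J hJ y (Function.update b j w)
  have h3 : (fun i => pst π (psi π hd d₁) y (Function.update b j w i)) =
      Function.update (fun i => pst π (psi π hd d₁) y (b i)) j (stalkDer d₁ y (π.stalkMap y t)) := by
    rw [← pst_psi π hd d₁ y t]
    exact Function.comp_update (fun z => pst π (psi π hd d₁) y z) b j w
  rw [h3] at h2
  obtain ⟨ω, hω⟩ := exists_log (isAlgUniv_kst hd₁ y).toIsDer (π.stalkMap y t) ha
  refine ⟨π.stalkMap y (c * ↑v⁻¹) • wedge hq₁ hW₁ y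
    (Function.update (fun i => pst π (psi π hd d₁) y (b i)) j ω), ?_⟩
  change a • pst π J y (c • wedge hq hW (π y) b) = _
  rw [h1, smul_smul, pst_smul, h2, smul_comm a, smul_comm (π.stalkMap y t)]
  congr 1
  rw [← AlternatingMap.map_update_smul, hω, AlternatingMap.map_update_smul]

theorem germ_eq_zero_of_eq {F : X.Modules} {U : X.Opens} (s : Γ(F, U)) {x x' : X} (h : x = x')
    (hx : x ∈ U) (hx' : x' ∈ U) (h0 : F.presheaf.germ U x hx s = 0) :
    F.presheaf.germ U x' hx' s = 0 := by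
  subst h
  exact h0

end Main

/-- The pull-back of top differential forms for a dominant morphism of smooth integral schemes of
the same dimension over a field of characteristic zero. -/
theorem main {k : Type u} [Field k] [CharZero k] {X X₁ : Scheme.{u}} (n : ℕ)
    (f : X ⟶ Spec (CommRingCat.of k)) (π : X₁ ⟶ X) [IsIntegral X] [IsIntegral X₁]
    [QuasiSeparated f] [QuasiSeparated (π ≫ f)] [SmoothOfRelativeDimension n f]
    [SmoothOfRelativeDimension n (π ≫ f)] [IsDominant π] {W : X.Modules} {W₁ : X₁.Modules}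
    (hW : ExtPow.IsExtPow n (Omega.sheaf f) W)
    (hW₁ : ExtPow.IsExtPow n (Omega.sheaf (π ≫ f)) W₁) :
    ∃ J : W ⟶ (Scheme.Modules.pushforward π).obj W₁,
      (∀ (U : X.Opens) (β : Γ(W, U)), β ≠ 0 → ∀ h : genericPoint X₁ ∈ π ⁻¹ᵁ U,
        W₁.presheaf.germ (π ⁻¹ᵁ U) (genericPoint X₁) h (show Γ(W₁, π ⁻¹ᵁ U) from J.app U β) ≠ 0) ∧
      (∀ (y : X₁), IsDiscreteValuationRing (X₁.presheaf.stalk y) →
        IsDiscreteValuationRing (X.presheaf.stalk (π y)) →
        ∀ t : X.presheaf.stalk (π y), Irreducible t →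
        ∀ a ∈ IsLocalRing.maximalIdeal (X₁.presheaf.stalk y),
        ∀ (U : X.Opens) (β : Γ(W, U)) (h : π y ∈ U), ∃ ω : W₁.presheaf.stalk y,
          a • W₁.presheaf.germ (π ⁻¹ᵁ U) y h (show Γ(W₁, π ⁻¹ᵁ U) from J.app U β) =
            (π.stalkMap y t) • ω) := by
  have hd := Groth.Agent.S5005.result f
  have hd₁ := Groth.Agent.S5005.result (π ≫ f)
  have hr := Groth.Agent.Dual.H339.OmegaRank.isFinLocFreeOfRank_omega n f
  have hr₁ := Groth.Agent.Dual.H339.OmegaRank.isFinLocFreeOfRank_omega n (π ≫ f)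
  have hq : Coh.IsQCoh (Omega.sheaf f) := K583.UnivAffine.isQuasicoherent_of_isUniversal hd
  obtain ⟨J, hJ⟩ := exists_isPull π (psi π hd (dOmega (π ≫ f))) hW hW₁
  refine ⟨J, ?_, ?_⟩
  · intro U β hβ h
    have h1 : π (genericPoint X₁) = genericPoint X := by
      have h2 := (genericPoint_spec X₁).image π.continuous
      rw [Set.image_univ, π.denseRange.closure_range] at h2
      exact (genericPoint_spec X).eq h2 |>.symm
    have hK : IsField (X.presheaf.stalk (π (genericPoint X₁))) := by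
      rw [h1]
      exact Field.toIsField X.functionField
    have hL : IsField (X₁.presheaf.stalk (genericPoint X₁)) := Field.toIsField X₁.functionField
    have h3 : W.presheaf.germ U (π (genericPoint X₁)) h β ≠ 0 := by
      intro h0
      apply hβ
      refine section_ext (inj_of_rank hq hr hW) (fun hη => ?_)
      rw [map_zero]
      exact germ_eq_zero_of_eq β h1 h hη h0
    have h4 := pst_ne_zero π hd hd₁ hr hr₁ hW hW₁ hJ (genericPoint X₁) hK hL h3
    rw [pst_germ] at h4
    exact h4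
  · intro y i1 i2 t ht a ha U β h
    have h1 : t ∈ IsLocalRing.maximalIdeal (X.presheaf.stalk (π y)) := by
      rw [ht.maximalIdeal_eq]
      exact Ideal.mem_span_singleton_self t
    have h2 : t ∉ IsLocalRing.maximalIdeal (X.presheaf.stalk (π y)) ^ 2 := by
      rw [ht.maximalIdeal_eq, Ideal.span_singleton_pow, Ideal.mem_span_singleton]
      rintro ⟨c, hc⟩
      have h3 : t * 1 = t * (t * c) := by rw [mul_one, ← mul_assoc, ← pow_two, ← hc]
      exact ht.not_isUnit (IsUnit.of_mul_eq_one c (mul_left_cancel₀ ht.ne_zero h3).symm)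
    obtain ⟨ω, hω⟩ := exists_log_pst π hd hd₁ hr hW hW₁ hJ y h1 h2 ha
      (W.presheaf.germ U (π y) h β)
    rw [pst_germ] at hω
    exact ⟨ω, hω⟩

end K680.FormMain
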